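import Groth.Agent.S16917
import Groth.Agent.Lib.GoodQuot13.Basic
import Groth.Agent.Lib.GrpSchField.Components
import Mathlib.AlgebraicGeometry.AlgClosed.Basic
import Mathlib.AlgebraicGeometry.Morphisms.Proper

/-!
# The maximal irreducible closed subset through the unit in a countable union subgroup
-/

set_option autoImplicit false
set_option linter.all false
set_option backward.isDefEq.respectTransparency false

universe u

open CategoryTheory CategoryTheory.Limits MonoidalCategory CartesianMonoidalCategory MonObj AlgebraicGeometry TopologicalSpace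

noncomputable section

namespace GrothLib.MaxIrrSubgrp13

variable {k : Type u} [Field k] [IsAlgClosed k] {A : Over (Spec (CommRingCat.of k))}

local notation "e₀" => IsLocalRing.closedPoint k
local notation "𝟏" => 𝟙_ (Over (Spec (CommRingCat.of k)))

instance : Subsingleton (Spec (CommRingCat.of k)) := inferInstanceAs (Subsingleton (PrimeSpectrum k))

theorem irreducibleSpace_of_homeomorph {α β : Type*} [TopologicalSpace α] [TopologicalSpace β] (e : α ≃ₜ β)
    (h : IrreducibleSpace β) : IrreducibleSpace α := by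
  refine { isPreirreducible_univ := ?_, toNonempty := ⟨e.symm (Classical.arbitrary β)⟩ }
  have := (IrreducibleSpace.isIrreducible_univ β).image e.symm e.symm.continuous.continuousOn
  rw [Set.image_univ, e.symm.surjective.range_eq] at this
  exact this.2

theorem range_point (x : 𝟏 ⟶ A) : Set.range x.left = {x.left e₀} := by
  ext z
  constructor
  · rintro ⟨w, rfl⟩
    obtain rfl : w = e₀ := Subsingleton.elim (α := Spec (CommRingCat.of k)) _ _
    rfl
  · rintro rfl
    exact ⟨_, rfl⟩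

theorem range_point_subset_iff (x : 𝟏 ⟶ A) (T : Set A.left) : Set.range x.left ⊆ T ↔ x.left e₀ ∈ T := by
  rw [range_point, Set.singleton_subset_iff]

theorem isClosed_point [IsProper A.hom] (x : 𝟏 ⟶ A) : IsClosed ({x.left e₀} : Set A.left) := by
  haveI : IsClosedImmersion (x.left ≫ A.hom) := by
    rw [Over.w]; exact inferInstanceAs (IsClosedImmersion (𝟙 (Spec (CommRingCat.of k))))
  haveI : IsClosedImmersion x.left := IsClosedImmersion.of_comp x.left A.hom
  rw [← range_point x]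
  exact x.left.isClosedEmbedding.isClosed_range

theorem exists_point_aux {R : Over (Spec (CommRingCat.of k))} [LocallyOfFiniteType R.hom] (z : R.left)
    (hz : IsClosed ({z} : Set R.left)) : ∃ x : 𝟙_ _ ⟶ R, x.left e₀ = z :=
  ⟨Over.homMk (pointOfClosedPoint R.hom z hz) (pointOfClosedPoint_comp _ _ _), pointOfClosedPoint_apply _ _ _ _⟩

theorem exists_factor [IsProper A.hom] {R : Over (Spec (CommRingCat.of k))} [LocallyOfFiniteType R.hom] (i : R ⟶ A)
    [IsClosedImmersion i.left] (x : 𝟙_ _ ⟶ A) (hx : x.left e₀ ∈ Set.range i.left) :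
    ∃ l : 𝟙_ _ ⟶ R, l ≫ i = x := by
  obtain ⟨z, hz⟩ := hx
  have hzc : IsClosed ({z} : Set R.left) := by
    rw [show ({z} : Set R.left) = i.left ⁻¹' {x.left e₀} from Set.ext fun w =>
      ⟨fun h => by rw [Set.mem_singleton_iff.1 h]; exact hz, fun h => i.left.isClosedEmbedding.injective (h.trans hz.symm)⟩]
    exact (isClosed_point x).preimage i.left.continuous
  obtain ⟨l, hl⟩ := exists_point_aux z hzc
  exact ⟨l, GrothLib.GoodQuot13.rationalPoint_ext _ _ (by show i.left (l.left e₀) = _; rw [hl, hz])⟩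

theorem exists_point [LocallyOfFiniteType A.hom] (z : A.left) (hz : IsClosed ({z} : Set A.left)) :
    ∃ x : 𝟏 ⟶ A, x.left e₀ = z :=
  ⟨Over.homMk (pointOfClosedPoint A.hom z hz) (pointOfClosedPoint_comp _ _ _), pointOfClosedPoint_apply _ _ _ _⟩

/-- An admissible pair is combined along a proper operation into an admissible set containing both. -/
theorem exists_admissible_image [IsProper A.hom] (m : A ⊗ A ⟶ A) (P : (𝟏 ⟶ A) → Prop)
    (hP : ∀ x y, P x → P y → P (lift x y ≫ m)) (T₁ T₂ : Closeds A.left)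
    (h₁ : IsIrreducible (T₁ : Set A.left)) (h₂ : IsIrreducible (T₂ : Set A.left))
    (a₁ : ∀ x : 𝟏 ⟶ A, Set.range x.left ⊆ (T₁ : Set A.left) → P x)
    (a₂ : ∀ x : 𝟏 ⟶ A, Set.range x.left ⊆ (T₂ : Set A.left) → P x) :
    ∃ D : Closeds A.left, IsIrreducible (D : Set A.left) ∧
      (∀ x : 𝟏 ⟶ A, Set.range x.left ⊆ (D : Set A.left) → P x) ∧
      ∀ x y : 𝟏 ⟶ A, Set.range x.left ⊆ (T₁ : Set A.left) → Set.range y.left ⊆ (T₂ : Set A.left) →
        Set.range (lift x y ≫ m).left ⊆ (D : Set A.left) := by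
  let R₁ : Over (Spec (CommRingCat.of k)) := Over.mk ((Scheme.IdealSheafData.vanishingIdeal T₁).subschemeι ≫ A.hom)
  let R₂ : Over (Spec (CommRingCat.of k)) := Over.mk ((Scheme.IdealSheafData.vanishingIdeal T₂).subschemeι ≫ A.hom)
  let i₁ : R₁ ⟶ A := Over.homMk (Scheme.IdealSheafData.vanishingIdeal T₁).subschemeι rfl
  let i₂ : R₂ ⟶ A := Over.homMk (Scheme.IdealSheafData.vanishingIdeal T₂).subschemeι rfl
  have hr₁ : Set.range i₁.left = (T₁ : Set A.left) := (Scheme.IdealSheafData.range_subschemeι _).trans (by simp)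
  have hr₂ : Set.range i₂.left = (T₂ : Set A.left) := (Scheme.IdealSheafData.range_subschemeι _).trans (by simp)
  haveI : IsClosedImmersion i₁.left := inferInstanceAs (IsClosedImmersion (Scheme.IdealSheafData.vanishingIdeal T₁).subschemeι)
  haveI : IsClosedImmersion i₂.left := inferInstanceAs (IsClosedImmersion (Scheme.IdealSheafData.vanishingIdeal T₂).subschemeι)
  haveI : IsProper R₁.hom := inferInstanceAs (IsProper (_ ≫ A.hom))
  haveI : IsProper R₂.hom := inferInstanceAs (IsProper (_ ≫ A.hom))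
  haveI : IrreducibleSpace R₁.left := by
    have h := h₁
    rw [← hr₁] at h
    exact irreducibleSpace_of_homeomorph i₁.left.isClosedEmbedding.isEmbedding.toHomeomorph (Subtype.irreducibleSpace h)
  haveI : IrreducibleSpace R₂.left := by
    have h := h₂
    rw [← hr₂] at h
    exact irreducibleSpace_of_homeomorph i₂.left.isClosedEmbedding.isEmbedding.toHomeomorph (Subtype.irreducibleSpace h)
  haveI : IrreducibleSpace (R₁ ⊗ R₂).left := GrothLib.GrpSchField.irreducibleSpace_pullback R₁.hom R₂.hom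
  let F : R₁ ⊗ R₂ ⟶ A := (i₁ ⊗ₘ i₂) ≫ m
  haveI : IsProper (R₁ ⊗ R₂).hom := inferInstanceAs (IsProper (pullback.fst R₁.hom R₂.hom ≫ R₁.hom))
  haveI : IsProper (F.left ≫ A.hom) := by rw [Over.w]; infer_instance
  haveI : IsProper F.left := IsProper.of_comp F.left A.hom
  refine ⟨⟨Set.range F.left, F.left.isClosedMap.isClosed_range⟩, ?_, fun x hx => ?_, fun x y hx hy => ?_⟩
  · show IsIrreducible (Set.range F.left)
    rw [← Set.image_univ]
    exact (IrreducibleSpace.isIrreducible_univ _).image _ F.left.continuous.continuousOn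
  · rw [range_point_subset_iff] at hx
    obtain ⟨w, hw⟩ := hx
    haveI : JacobsonSpace (R₁ ⊗ R₂).left := LocallyOfFiniteType.jacobsonSpace (R₁ ⊗ R₂).hom
    obtain ⟨w', hw', hw'c⟩ := nonempty_inter_closedPoints (Z := F.left ⁻¹' {x.left e₀}) ⟨w, hw⟩
      ((isClosed_point x).preimage F.left.continuous).isLocallyClosed
    obtain ⟨v, hv⟩ := exists_point (A := R₁ ⊗ R₂) w' hw'c
    have hxv : x = lift (v ≫ fst _ _ ≫ i₁) (v ≫ snd _ _ ≫ i₂) ≫ m := by
      refine GrothLib.GoodQuot13.rationalPoint_ext _ _ ?_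
      rw [show lift (v ≫ fst _ _ ≫ i₁) (v ≫ snd _ _ ≫ i₂) ≫ m = v ≫ F by
        show _ = v ≫ (i₁ ⊗ₘ i₂) ≫ m
        rw [← Category.assoc v (fst R₁ R₂) i₁, ← Category.assoc v (snd R₁ R₂) i₂, ← lift_map, ← comp_lift,
          lift_fst_snd, Category.comp_id, Category.assoc]]
      show x.left e₀ = F.left (v.left e₀)
      rw [hv]
      exact hw'.symm
    rw [hxv]
    refine hP _ _ (a₁ _ ?_) (a₂ _ ?_)
    · rw [← hr₁]; rintro _ ⟨z, rfl⟩; exact ⟨(v ≫ fst _ _).left z, rfl⟩
    · rw [← hr₂]; rintro _ ⟨z, rfl⟩; exact ⟨(v ≫ snd _ _).left z, rfl⟩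
  · obtain ⟨l₁, e₁⟩ := exists_factor i₁ x (by rw [hr₁]; exact (range_point_subset_iff x _).1 hx)
    obtain ⟨l₂, e₂⟩ := exists_factor i₂ y (by rw [hr₂]; exact (range_point_subset_iff y _).1 hy)
    have : lift x y ≫ m = lift l₁ l₂ ≫ F := by
      show _ = lift l₁ l₂ ≫ (i₁ ⊗ₘ i₂) ≫ m
      rw [lift_map_assoc, e₁, e₂]
    rw [this]
    rintro _ ⟨z, rfl⟩
    exact ⟨(lift l₁ l₂).left z, rfl⟩

theorem subset_of_points [LocallyOfFiniteType A.hom] (T : Closeds A.left) (D : Closeds A.left)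
    (h : ∀ x : 𝟏 ⟶ A, Set.range x.left ⊆ (T : Set A.left) → Set.range x.left ⊆ (D : Set A.left)) :
    T ≤ D := by
  haveI : JacobsonSpace A.left := LocallyOfFiniteType.jacobsonSpace A.hom
  show (T : Set A.left) ⊆ D
  rw [← closure_inter_closedPoints T.isClosed]
  refine closure_minimal ?_ D.isClosed
  rintro z ⟨hzT, hzc⟩
  obtain ⟨x, rfl⟩ := exists_point z hzc
  exact (range_point_subset_iff x _).1 (h x ((range_point_subset_iff x _).2 hzT))

theorem main [Uncountable k] [GrpObj A] [IsProper A.hom]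
    (K : Subgroup (𝟏 ⟶ A)) (Z : ℕ → Closeds ↥A.left)
    (hK : ∀ x : 𝟏 ⟶ A, x ∈ K ↔ Set.range ⇑x.left.base ⊆ ⋃ n, (Z n : Set ↥A.left)) :
    (∃! T : Closeds ↥A.left,
      Maximal (fun T : Closeds ↥A.left => IsIrreducible (T : Set ↥A.left) ∧
        ∀ x : 𝟏 ⟶ A, Set.range ⇑x.left.base ⊆ (T : Set ↥A.left) → x ∈ K) T ∧
      Set.range ⇑(1 : 𝟏 ⟶ A).left.base ⊆ (T : Set ↥A.left)) ∧
    ∀ T : Closeds ↥A.left,
      Maximal (fun T : Closeds ↥A.left => IsIrreducible (T : Set ↥A.left) ∧
        ∀ x : 𝟏 ⟶ A, Set.range ⇑x.left.base ⊆ (T : Set ↥A.left) → x ∈ K) T →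
      Set.range ⇑(1 : 𝟏 ⟶ A).left.base ⊆ (T : Set ↥A.left) →
      (∃ n, (T : Set ↥A.left) ⊆ (Z n : Set ↥A.left)) ∧
      ∀ x y : 𝟏 ⟶ A,
        Set.range ⇑x.left.base ⊆ (T : Set ↥A.left) → Set.range ⇑y.left.base ⊆ (T : Set ↥A.left) →
        Set.range ⇑(x * y⁻¹).left.base ⊆ (T : Set ↥A.left) := by
  haveI : IsLocallyNoetherian A.left := LocallyOfFiniteType.isLocallyNoetherian A.hom
  let one : 𝟏 ⟶ A := 1
  let T₀ : Closeds A.left := ⟨{one.left e₀}, isClosed_point _⟩
  let Adm : Closeds A.left → Prop := fun T => IsIrreducible (T : Set A.left) ∧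
    ∀ x : 𝟏 ⟶ A, Set.range x.left ⊆ (T : Set A.left) → x ∈ K
  have hT₀ : Adm T₀ := by
    refine ⟨isIrreducible_singleton, fun x hx => ?_⟩
    rw [range_point_subset_iff] at hx
    rw [GrothLib.GoodQuot13.rationalPoint_ext x one hx]
    exact K.one_mem
  have key : ∀ T T', Maximal Adm T → Set.range one.left ⊆ (T : Set A.left) → Adm T' →
      Set.range one.left ⊆ (T' : Set A.left) → T' ≤ T := by
    intro T T' hT h1 hT' h1'
    obtain ⟨D, hD, hDK, hDT⟩ := exists_admissible_image (fst A A * snd A A) (· ∈ K) (fun x y hx hy => by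
      simpa [MonObj.comp_mul] using K.mul_mem hx hy) T T' hT.prop.1 hT'.1 hT.prop.2 hT'.2
    have l1 : T ≤ D := subset_of_points T D fun x hx => by
      have := hDT x one hx h1'
      simpa [MonObj.comp_mul, one] using this
    have l2 : T' ≤ D := subset_of_points T' D fun x hx => by
      have := hDT one x h1 hx
      simpa [MonObj.comp_mul, one] using this
    exact l2.trans (hT.le_of_ge ⟨hD, hDK⟩ l1)
  refine ⟨?_, fun T hT h1 => ⟨?_, fun x y hx hy => ?_⟩⟩
  · obtain ⟨T, hT, hle, hmax⟩ := Groth.Agent.S16917.exists_maximal_above {T | Adm T} (fun T h => h.1) hT₀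
    have hTmax : Maximal Adm T := ⟨hT, fun T' hT' h => (hmax T' hT' h).le⟩
    have h1 : Set.range one.left ⊆ (T : Set A.left) := (range_point_subset_iff one _).2 (hle rfl)
    exact ⟨T, ⟨hTmax, h1⟩, fun T' ⟨hT', h1'⟩ => le_antisymm (key T T' hTmax h1 hT'.prop h1') (key T' T hT' h1' hT h1)⟩
  · obtain ⟨gp, hgp⟩ := QuasiSober.sober hT.prop.1 T.isClosed
    by_contra hn
    simp only [not_exists] at hn
    obtain ⟨z, -, hz, hgpz, hzZ⟩ := GrothLib.Uncountable.exists_closedPoint_specializes A.hom Z gp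
      (fun n hgpn => hn n fun w hw => (hgp.specializes hw).mem_closed (Z n).isClosed hgpn) ⊤ trivial
    obtain ⟨x, rfl⟩ := exists_point z hz
    have hxK := hT.prop.2 x ((range_point_subset_iff x _).2 (hgpz.mem_closed T.isClosed hgp.mem))
    obtain ⟨n, hxn⟩ := Set.mem_iUnion.1 ((range_point_subset_iff x _).1 ((hK x).1 hxK))
    exact hzZ n hxn
  · obtain ⟨D, hD, hDK, hDT⟩ := exists_admissible_image (fst A A * (snd A A)⁻¹) (· ∈ K) (fun x y hx hy => by
      simpa [MonObj.comp_mul, GrpObj.comp_inv] using K.mul_mem hx (K.inv_mem hy)) T T hT.prop.1 hT.prop.1 hT.prop.2 hT.prop.2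
    have l1 : T ≤ D := subset_of_points T D fun z hz => by
      have := hDT z one hz h1
      simpa [MonObj.comp_mul, GrpObj.comp_inv, one] using this
    have := hDT x y hx hy
    simp only [MonObj.comp_mul, GrpObj.comp_inv, lift_fst, lift_snd] at this
    exact this.trans (hT.le_of_ge ⟨hD, hDK⟩ l1)

end GrothLib.MaxIrrSubgrp13
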